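import Cfsg.Agent.H636.F2.Table

/-!
# Systems of linear and quadratic equations over `F_2` (helper636)

`f : ℕ → ZMod 2`, the variables `f 0, …, f (n - 1)`.

* linear equations: masks `m` with `dot n m f = 0`; quadratic equations: lists `P` of pairs with `quad P f = ∑ f i f j = 0`;
* `Par` data: `fr : List ℕ` the free variables (`k` of them), `par : List ℕ` the masks of the variables in terms of the free ones,
  `ct : List (List ℕ)` certificates (lists of masks of the linear equations);
* `solutions` : the solutions are the bits of the number `solve …`.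
-/

set_option autoImplicit false

namespace Cfsg.Agent.H636.F2

open Finset

/-- a linear form -/
def dot (n m : ℕ) (f : ℕ → ZMod 2) : ZMod 2 := ∑ i ∈ range n, if Nat.testBit m i then f i else 0

theorem dot_xor (n a b : ℕ) (f : ℕ → ZMod 2) : dot n (a ^^^ b) f = dot n a f + dot n b f := by
  unfold dot
  rw [← sum_add_distrib]
  refine sum_congr rfl fun i _ => ?_
  rw [Nat.testBit_xor]
  have h2 : f i + f i = 0 := CharTwo.add_self_eq_zero _
  cases Nat.testBit a i <;> cases Nat.testBit b i <;> simp [h2]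

theorem dot_zero (n : ℕ) (f : ℕ → ZMod 2) : dot n 0 f = 0 := by
  unfold dot
  simp

theorem dot_two_pow {n i : ℕ} (hi : i < n) (f : ℕ → ZMod 2) : dot n (2 ^ i) f = f i := by
  unfold dot
  rw [sum_eq_single i]
  · rw [Nat.testBit_two_pow_self]
    simp
  · intro j _ hj
    rw [Nat.testBit_two_pow_of_ne (Ne.symm hj)]
    simp
  · intro h
    exact absurd (mem_range.2 hi) h

/-- a quadratic form -/
def quad (P : List (ℕ × ℕ)) (f : ℕ → ZMod 2) : ZMod 2 := (P.map fun x => f x.1 * f x.2).sum

/-- the Boolean function -/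
def bo (f : ℕ → ZMod 2) (i : ℕ) : Bool := decide (f i = 1)

/-- `ZMod 2` from `Bool` -/
def zb (b : Bool) : ZMod 2 := if b then 1 else 0

theorem zb_bo (f : ℕ → ZMod 2) (i : ℕ) : zb (bo f i) = f i := by
  unfold zb bo
  generalize f i = a
  revert a
  decide

theorem zb_xor (a b : Bool) : zb (xor a b) = zb a + zb b := by
  revert a b
  decide

theorem zb_and (a b : Bool) : zb (a && b) = zb a * zb b := by
  revert a b
  decide

theorem zb_inj {a b : Bool} (h : zb a = zb b) : a = b := by
  revert a b
  decide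

/-- the linear form of a mask in the first `k` variables, as an expression -/
def lin (m : ℕ) : ℕ → Ex
  | 0 => .zer
  | k + 1 => bif Nat.testBit m k then .xo (lin m k) (.var k) else lin m k

theorem ev_lin (m : ℕ) (g : ℕ → ZMod 2) : ∀ k, zb ((lin m k).ev (bo g)) = dot k m g
  | 0 => by simp [lin, Ex.ev, dot, zb]
  | k + 1 => by
    unfold dot
    rw [sum_range_succ, lin]
    have h1 := ev_lin m g k
    unfold dot at h1
    cases h : Nat.testBit m k
    · rw [cond_false, h1]
      simp
    · rw [cond_true, Ex.ev, zb_xor, h1, Ex.ev, zb_bo]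
      simp

theorem bd_lin (m : ℕ) : ∀ {k K : ℕ}, k ≤ K → (lin m k).bd K = true
  | 0, K, _ => rfl
  | k + 1, K, h => by
    rw [lin]
    cases Nat.testBit m k
    · exact bd_lin m (by omega)
    · rw [cond_true, Ex.bd, bd_lin m (by omega), Ex.bd]
      simp
      omega

/-- the expression of a quadratic equation in the free variables -/
def bil (k : ℕ) (par : List ℕ) : List (ℕ × ℕ) → Ex
  | [] => .zer
  | x :: P => .xo (.an (lin (par.getD x.1 0) k) (lin (par.getD x.2 0) k)) (bil k par P)

theorem bd_bil (k : ℕ) (par : List ℕ) : ∀ P, (bil k par P).bd k = true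
  | [] => rfl
  | x :: P => by
    rw [bil, Ex.bd, Ex.bd, bd_lin _ le_rfl, bd_lin _ le_rfl, bd_bil k par P]
    rfl

theorem ev_bil (k : ℕ) (par : List ℕ) (f g : ℕ → ZMod 2) (n : ℕ) (h : ∀ i < n, f i = dot k (par.getD i 0) g) :
    ∀ P : List (ℕ × ℕ), (∀ x ∈ P, x.1 < n ∧ x.2 < n) → zb ((bil k par P).ev (bo g)) = quad P f
  | [], _ => by simp [bil, Ex.ev, quad, zb]
  | x :: P, hP => by
    have h1 := hP x List.mem_cons_self
    rw [bil, Ex.ev, Ex.ev, zb_xor, zb_and, ev_lin, ev_lin, ev_bil k par f g n h P fun y hy => hP y (List.mem_cons_of_mem _ hy),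
      ← h _ h1.1, ← h _ h1.2]
    unfold quad
    rw [List.map_cons, List.sum_cons]

/-- xor of a list -/
def xl : List ℕ → ℕ
  | [] => 0
  | a :: l => a ^^^ xl l

theorem dot_xl (n : ℕ) (f : ℕ → ZMod 2) : ∀ l : List ℕ, (∀ m ∈ l, dot n m f = 0) → dot n (xl l) f = 0
  | [], _ => dot_zero n f
  | a :: l, h => by
    rw [xl, dot_xor, h a List.mem_cons_self, dot_xl n f l fun m hm => h m (List.mem_cons_of_mem _ hm), add_zero]

/-- the mask of a linear form of the free variables, in terms of all variables -/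
def up (fr : List ℕ) (m : ℕ) : ℕ → ℕ
  | 0 => 0
  | k + 1 => bif Nat.testBit m k then up fr m k ^^^ 2 ^ fr.getD k 0 else up fr m k

theorem dot_up (n : ℕ) (fr : List ℕ) (m : ℕ) (f : ℕ → ZMod 2) (hfr : ∀ q, fr.getD q 0 < n) :
    ∀ k, dot n (up fr m k) f = dot k m fun q => f (fr.getD q 0)
  | 0 => by
    rw [up, dot_zero]
    simp [dot]
  | k + 1 => by
    have h1 := dot_up n fr m f hfr k
    unfold dot at h1 ⊢
    rw [sum_range_succ, ← h1, up]
    cases h : Nat.testBit m k
    · simp
    · have h2 := dot_xor n (up fr m k) (2 ^ fr.getD k 0) f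
      rw [dot_two_pow (hfr k)] at h2
      unfold dot at h2
      rw [cond_true, h2]
      simp

/-- the check of the parametrisation: the variable `i` -/
def okv (k : ℕ) (fr par : List ℕ) (lins : List ℕ) (ct : List (List ℕ)) (i : ℕ) : Bool :=
  ((ct.getD i []).all fun m => lins.contains m) && (xl (ct.getD i []) == 2 ^ i ^^^ up fr (par.getD i 0) k)

theorem okv_spec {n k : ℕ} {fr par lins : List ℕ} {ct : List (List ℕ)} {i : ℕ} (hi : i < n) (hfr : ∀ q, fr.getD q 0 < n)
    (h : okv k fr par lins ct i = true) (f : ℕ → ZMod 2) (hf : ∀ m ∈ lins, dot n m f = 0) :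
    f i = dot k (par.getD i 0) fun q => f (fr.getD q 0) := by
  rw [okv, Bool.and_eq_true, beq_iff_eq] at h
  have h1 := dot_xl n f (ct.getD i []) fun m hm => hf m (by
    have := List.all_eq_true.1 h.1 m hm
    rwa [List.contains_iff_mem] at this)
  rw [h.2, dot_xor, dot_two_pow hi, dot_up n fr _ f hfr] at h1
  exact (CharTwo.add_eq_zero).1 h1

/-- the whole check of the parametrisation -/
def okp (n k : ℕ) (fr par : List ℕ) (lins : List ℕ) (ct : List (List ℕ)) : Bool :=
  (Nat.blt 0 n) && (fr.all fun q => Nat.blt q n) && ((List.range n).all fun i => okv k fr par lins ct i)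

/-- **the solutions** -/
theorem solutions {n k : ℕ} {fr par lins : List ℕ} {ct : List (List ℕ)} {quads : List (List (ℕ × ℕ))}
    (hp : okp n k fr par lins ct = true) (hq : (quads.all fun P => P.all fun x => Nat.blt x.1 n && Nat.blt x.2 n) = true)
    {s : ℕ} (hs : solve k (quads.map (bil k par)) (2 ^ 2 ^ k - 1) = s) (f : ℕ → ZMod 2) (hf : ∀ m ∈ lins, dot n m f = 0)
    (hfq : ∀ P ∈ quads, quad P f = 0) :
    ∃ j < 2 ^ k, Nat.testBit s j = true ∧ ∀ i < n, f i = dot k (par.getD i 0) fun q => zb (Nat.testBit j q) := by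
  rw [okp, Bool.and_eq_true, Bool.and_eq_true] at hp
  obtain ⟨⟨h0, h1⟩, h2⟩ := hp
  have hfr : ∀ q, fr.getD q 0 < n := by
    intro q
    rw [List.getD_eq_getElem?_getD]
    rcases h : fr[q]? with _ | a
    · simp at h0
      exact h0
    · have := List.all_eq_true.1 h1 a (List.mem_of_getElem? h)
      simp at this
      exact this
  set g : ℕ → ZMod 2 := fun q => f (fr.getD q 0) with hg
  have h3 : ∀ i < n, f i = dot k (par.getD i 0) g := fun i hi =>
    okv_spec hi hfr (List.all_eq_true.1 h2 i (List.mem_range.2 hi)) f hf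
  have hbd : (quads.map (bil k par)).all (Ex.bd k) = true := by
    rw [List.all_eq_true]
    intro e he
    obtain ⟨P, -, rfl⟩ := List.mem_map.1 he
    exact bd_bil k par P
  have h4 : ∀ e ∈ quads.map (bil k par), e.ev (bo g) = false := by
    intro e he
    obtain ⟨P, hP, rfl⟩ := List.mem_map.1 he
    have h5 := ev_bil k par f g n h3 P fun x hx => by
      have h6 := List.all_eq_true.1 (List.all_eq_true.1 hq P hP) x hx
      rw [Bool.and_eq_true] at h6
      simp at h6
      exact h6
    rw [hfq P hP] at h5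
    exact zb_inj h5
  obtain ⟨j, hj, hjg, hjs⟩ := mem_of_solve hbd hs (bo g) h4
  refine ⟨j, hj, hjs, fun i hi => ?_⟩
  rw [h3 i hi]
  unfold dot
  refine sum_congr rfl fun q hq' => ?_
  dsimp only
  rw [hjg q (mem_range.1 hq'), zb_bo]

end Cfsg.Agent.H636.F2
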