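import Mathlib

/-!
# Exhaustive checks over `F_2 ^ k` with truth tables (helper636)

A Boolean function of `k` variables is a number with `2 ^ k` bits, bit `j` = the value at the assignment `i ↦ testBit j i`.
`Ex` : expressions; `Ex.tb k e` : the table of `e` (computed by the kernel with `Nat.xor`, `Nat.land` on big numbers).

* `tb_spec` : `testBit (e.tb k) j = e.ev (testBit j)`, `j < 2 ^ k`;
* `forall_of_tb` : `e.tb k = 0` implies `e.ev f = false` for all `f` (variables `< k`);
* `solve` : the assignments satisfying a list of equations `e = 0`, all `k` variables: the table of the solutions.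
-/

set_option autoImplicit false

namespace Cfsg.Agent.H636.F2

/-- the table of the variable `i` -/
def tv : ℕ → ℕ → ℕ
  | 0, _ => 0
  | k + 1, i => if i = k then (2 ^ 2 ^ k - 1) <<< (2 ^ k) else tv k i ||| tv k i <<< (2 ^ k)

/-- expressions -/
inductive Ex : Type
  | var (i : ℕ) : Ex
  | zer : Ex
  | one : Ex
  | xo (a b : Ex) : Ex
  | an (a b : Ex) : Ex

/-- the value -/
def Ex.ev (f : ℕ → Bool) : Ex → Bool
  | .var i => f i
  | .zer => false
  | .one => true
  | .xo a b => xor (a.ev f) (b.ev f)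
  | .an a b => (a.ev f) && (b.ev f)

/-- the table -/
def Ex.tb (k : ℕ) : Ex → ℕ
  | .var i => tv k i
  | .zer => 0
  | .one => 2 ^ 2 ^ k - 1
  | .xo a b => a.tb k ^^^ b.tb k
  | .an a b => a.tb k &&& b.tb k

/-- all variables are `< k` -/
def Ex.bd (k : ℕ) : Ex → Bool
  | .var i => Nat.blt i k
  | .zer => true
  | .one => true
  | .xo a b => a.bd k && b.bd k
  | .an a b => a.bd k && b.bd k

theorem tv_lt : ∀ k i, tv k i < 2 ^ 2 ^ k
  | 0, i => by
    change 0 < _
    norm_num
  | k + 1, i => by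
    have h0 : (2 : ℕ) ^ 2 ^ (k + 1) = 2 ^ (2 ^ k + 2 ^ k) := by rw [pow_succ, mul_two]
    rw [h0]
    unfold tv
    split_ifs with h
    · rw [Nat.shiftLeft_eq, pow_add]
      exact Nat.mul_lt_mul_of_pos_right (Nat.sub_lt (by positivity) one_pos) (by positivity)
    · refine Nat.or_lt_two_pow ?_ ?_
      · exact lt_of_lt_of_le (tv_lt k i) (Nat.pow_le_pow_right two_pos (Nat.le_add_right _ _))
      · rw [Nat.shiftLeft_eq, pow_add]
        exact Nat.mul_lt_mul_of_pos_right (tv_lt k i) (by positivity)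

theorem tv_spec : ∀ (k i j : ℕ), j < 2 ^ k → Nat.testBit (tv k i) j = Nat.testBit j i
  | 0, i, j, hj => by
    have : j = 0 := by
      rw [pow_zero] at hj
      omega
    subst this
    simp [tv]
  | k + 1, i, j, hj => by
    rw [pow_succ, mul_two] at hj
    unfold tv
    split_ifs with h
    · subst h
      rw [Nat.testBit_shiftLeft, Nat.testBit_two_pow_sub_one]
      rcases lt_or_ge j (2 ^ i) with h1 | h1
      · rw [Nat.testBit_lt_two_pow h1]
        have : ¬ (2 ^ i ≤ j) := by omega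
        simp [this]
      · obtain ⟨j', rfl⟩ := Nat.exists_eq_add_of_le h1
        rw [Nat.testBit_two_pow_add_eq, Nat.testBit_lt_two_pow (by omega : j' < 2 ^ i)]
        simp
        omega
    · rw [Nat.testBit_or, Nat.testBit_shiftLeft]
      rcases lt_or_ge j (2 ^ k) with h1 | h1
      · have h2 : ¬ (2 ^ k ≤ j) := by omega
        rw [tv_spec k i j h1]
        simp [h2]
      · obtain ⟨j', rfl⟩ := Nat.exists_eq_add_of_le h1
        have h2 : Nat.testBit (tv k i) (2 ^ k + j') = false :=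
          Nat.testBit_lt_two_pow (lt_of_lt_of_le (tv_lt k i) (Nat.pow_le_pow_right two_pos (Nat.le_add_right _ _)))
        rw [h2, Nat.add_sub_cancel_left, tv_spec k i j' (by omega)]
        rcases lt_or_ge i k with h3 | h3
        · rw [Nat.testBit_two_pow_add_gt h3]
          simp
        · have h4 : k < i := lt_of_le_of_ne h3 (Ne.symm h)
          have h5 : 2 ^ (k + 1) ≤ 2 ^ i := Nat.pow_le_pow_right two_pos h4
          rw [pow_succ] at h5
          rw [Nat.testBit_lt_two_pow (by omega : j' < 2 ^ i), Nat.testBit_lt_two_pow (by omega : 2 ^ k + j' < 2 ^ i)]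
          simp

theorem tb_spec (k : ℕ) : ∀ (e : Ex) (j : ℕ), j < 2 ^ k → Nat.testBit (e.tb k) j = e.ev (Nat.testBit j)
  | .var i, j, hj => tv_spec k i j hj
  | .zer, j, hj => by simp [Ex.tb, Ex.ev]
  | .one, j, hj => by simp [Ex.tb, Ex.ev, hj]
  | .xo a b, j, hj => by rw [Ex.tb, Ex.ev, Nat.testBit_xor, tb_spec k a j hj, tb_spec k b j hj]
  | .an a b, j, hj => by rw [Ex.tb, Ex.ev, Nat.testBit_and, tb_spec k a j hj, tb_spec k b j hj]

theorem tb_lt (k : ℕ) : ∀ e : Ex, e.tb k < 2 ^ 2 ^ k
  | .var i => tv_lt k i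
  | .zer => by
    change 0 < _
    positivity
  | .one => Nat.sub_lt (by positivity) one_pos
  | .xo a b => Nat.xor_lt_two_pow (tb_lt k a) (tb_lt k b)
  | .an a b => Nat.and_lt_two_pow _ (tb_lt k b)

theorem ev_congr (k : ℕ) {f g : ℕ → Bool} (h : ∀ i < k, f i = g i) : ∀ e : Ex, e.bd k = true → e.ev f = e.ev g
  | .var i, hb => h i (by rw [Ex.bd] at hb; exact (Nat.blt_eq ▸ hb : i < k))
  | .zer, _ => rfl
  | .one, _ => rfl
  | .xo a b, hb => by
    rw [Ex.bd, Bool.and_eq_true] at hb
    rw [Ex.ev, Ex.ev, ev_congr k h a hb.1, ev_congr k h b hb.2]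
  | .an a b, hb => by
    rw [Ex.bd, Bool.and_eq_true] at hb
    rw [Ex.ev, Ex.ev, ev_congr k h a hb.1, ev_congr k h b hb.2]

/-- the number of an assignment -/
theorem exists_num (k : ℕ) (f : ℕ → Bool) : ∃ j < 2 ^ k, ∀ i < k, Nat.testBit j i = f i := by
  refine ⟨Nat.ofBits fun i : Fin k => f i, Nat.ofBits_lt_two_pow _, fun i hi => ?_⟩
  rw [Nat.testBit_ofBits_lt _ i hi]

/-- **all assignments** -/
theorem forall_of_tb {k : ℕ} {e : Ex} (hb : e.bd k = true) (h : e.tb k = 0) (f : ℕ → Bool) : e.ev f = false := by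
  obtain ⟨j, hj, hf⟩ := exists_num k f
  rw [← ev_congr k hf e hb, ← tb_spec k e j hj, h, Nat.zero_testBit]

/-- the table of the common zeros of the expressions -/
def solve (k : ℕ) : List Ex → ℕ → ℕ
  | [], s => s
  | e :: l, s => solve k l (s ^^^ (s &&& e.tb k))

theorem solve_spec (k : ℕ) {j : ℕ} (hj : j < 2 ^ k) : ∀ (l : List Ex) (s : ℕ), Nat.testBit s j = true →
    (∀ e ∈ l, e.ev (Nat.testBit j) = false) → Nat.testBit (solve k l s) j = true
  | [], s, hs, _ => hs
  | e :: l, s, hs, h => by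
    refine solve_spec k hj l _ ?_ fun e' he' => h e' (List.mem_cons_of_mem _ he')
    rw [Nat.testBit_xor, Nat.testBit_and, tb_spec k e j hj, h e List.mem_cons_self, hs]
    rfl

/-- **no common zeros** -/
theorem false_of_solve {k : ℕ} {l : List Ex} (hb : l.all (Ex.bd k) = true) (h : solve k l (2 ^ 2 ^ k - 1) = 0) (f : ℕ → Bool)
    (hf : ∀ e ∈ l, e.ev f = false) : False := by
  obtain ⟨j, hj, hfj⟩ := exists_num k f
  have h1 : Nat.testBit (solve k l (2 ^ 2 ^ k - 1)) j = true := by
    refine solve_spec k hj l _ ?_ fun e he => ?_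
    · rw [Nat.testBit_two_pow_sub_one]
      exact decide_eq_true hj
    · rw [ev_congr k hfj e (List.all_eq_true.1 hb e he)]
      exact hf e he
  rw [h, Nat.zero_testBit] at h1
  exact Bool.false_ne_true h1

/-- **the common zeros** -/
theorem mem_of_solve {k : ℕ} {l : List Ex} (hb : l.all (Ex.bd k) = true) {s : ℕ} (h : solve k l (2 ^ 2 ^ k - 1) = s)
    (f : ℕ → Bool) (hf : ∀ e ∈ l, e.ev f = false) : ∃ j < 2 ^ k, (∀ i < k, Nat.testBit j i = f i) ∧ Nat.testBit s j = true := by
  obtain ⟨j, hj, hfj⟩ := exists_num k f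
  refine ⟨j, hj, hfj, ?_⟩
  rw [← h]
  refine solve_spec k hj l _ ?_ fun e he => ?_
  · rw [Nat.testBit_two_pow_sub_one]
    exact decide_eq_true hj
  · rw [ev_congr k hfj e (List.all_eq_true.1 hb e he)]
    exact hf e he

end Cfsg.Agent.H636.F2
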